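import Mathlib

/-!
Consequences of Burnside transfer for abelian Sylow subgroups of perfect groups.
-/

set_option autoImplicit false

namespace Cfsg.Agent.Lib.JankoReeSchur

open Subgroup

variable {G : Type*} [Group G] [Finite G]

/-- In a perfect group with abelian Sylow `p`-subgroup `P`, only `1` in `P` commutes with all
of the normalizer of `P`. -/
theorem eq_one_of_commute_normalizer {p : ℕ} [Fact p.Prime] (hperf : commutator G = ⊤)
    (P : Sylow p G) (hP : ∀ a ∈ (P : Subgroup G), ∀ b ∈ (P : Subgroup G), a * b = b * a)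
    {x : G} (hx : x ∈ (P : Subgroup G))
    (hc : ∀ n ∈ Subgroup.normalizer ((P : Subgroup G) : Set G), n * x = x * n) : x = 1 := by
  haveI : IsMulCommutative (P : Subgroup G) :=
    ⟨⟨fun a b => Subtype.ext (hP a a.2 b b.2)⟩⟩
  letI : CommGroup (P : Subgroup G) := { (P : Subgroup G).toGroup with mul_comm := fun a b => Subtype.ext (hP a a.2 b b.2) }
  let φ : (P : Subgroup G) →* (P : Subgroup G) := MonoidHom.id _
  haveI : (P : Subgroup G).FiniteIndex := inferInstance
  have key : ∀ (k : ℕ) (g₀ : G), g₀⁻¹ * x ^ k * g₀ ∈ (P : Subgroup G) →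
      g₀⁻¹ * x ^ k * g₀ = x ^ k := by
    intro k g₀ h
    obtain ⟨n, hn, e⟩ := P.conj_eq_normalizer_conj_of_mem (x ^ k) g₀ (pow_mem hx k) h
    have h1 : Commute n (x ^ k) := (show Commute n x from hc n hn).pow_right k
    rw [e, mul_assoc, ← h1.eq, ← mul_assoc, inv_mul_cancel, one_mul]
  have h1 := MonoidHom.transfer_eq_pow φ x key
  have h2 : x ∈ (MonoidHom.transfer φ).ker :=
    (hperf ▸ Abelianization.commutator_subset_ker (MonoidHom.transfer φ) :
      (⊤ : Subgroup G) ≤ _) (Subgroup.mem_top x)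
  rw [MonoidHom.mem_ker, h1] at h2
  have h3 : x ^ (P : Subgroup G).index = 1 := congrArg Subtype.val h2
  obtain ⟨k, hk⟩ := P.2 ⟨x, hx⟩
  have hk' : x ^ p ^ k = 1 := congrArg Subtype.val hk
  have hcop : Nat.Coprime (p ^ k) (P : Subgroup G).index :=
    ((Fact.out : p.Prime).coprime_iff_not_dvd.2 P.not_dvd_index).pow_left k
  have := pow_gcd_eq_one.2 ⟨hk', h3⟩
  rwa [hcop.gcd_eq_one, pow_one] at this

/-- The contrapositive form. -/
theorem exists_normalizer_moves {p : ℕ} [Fact p.Prime] (hperf : commutator G = ⊤)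
    (P : Sylow p G) (hP : ∀ a ∈ (P : Subgroup G), ∀ b ∈ (P : Subgroup G), a * b = b * a)
    {x : G} (hx : x ∈ (P : Subgroup G)) (hx1 : x ≠ 1) :
    ∃ n ∈ Subgroup.normalizer ((P : Subgroup G) : Set G), n * x * n⁻¹ ≠ x := by
  by_contra h
  push Not at h
  exact hx1 (eq_one_of_commute_normalizer hperf P hP hx fun n hn => mul_inv_eq_iff_eq_mul.1 (h n hn))

/-- A simple non-commutative group is perfect. -/
theorem commutator_eq_top_of_simple {X : Type*} [Group X] [IsSimpleGroup X]
    (hX : ¬ IsMulCommutative X) : commutator X = ⊤ := by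
  rcases IsSimpleGroup.eq_bot_or_eq_top_of_normal (commutator X) inferInstance with h | h
  · exfalso
    apply hX
    refine ⟨⟨fun a b => ?_⟩⟩
    have hm : a * b * a⁻¹ * b⁻¹ ∈ commutator X := commutator_mem_commutator (mem_top a) (mem_top b)
    rw [h, Subgroup.mem_bot] at hm
    exact mul_inv_eq_iff_eq_mul.1 (mul_inv_eq_one.1 hm)
  · exact h

/-- A perfect group has no nontrivial central `p`-element if its Sylow `p`-subgroup is abelian. -/
theorem eq_one_of_central {p : ℕ} [Fact p.Prime] (hperf : commutator G = ⊤)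
    (P : Sylow p G) (hP : ∀ a ∈ (P : Subgroup G), ∀ b ∈ (P : Subgroup G), a * b = b * a)
    {z : G} (hz : z ∈ Subgroup.center G) (hzP : z ∈ (P : Subgroup G)) : z = 1 :=
  eq_one_of_commute_normalizer hperf P hP hzP fun n _ => Subgroup.mem_center_iff.1 hz n

end Cfsg.Agent.Lib.JankoReeSchur
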