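import Cfsg.Agent.Lib.JankoReeSchur.Psl

/-!
Groups of Janko–Ree type: no perfect central extension by a 2-group, and 2-power automorphisms
centralising a Sylow 2-subgroup are inner.
-/

set_option autoImplicit false

namespace Cfsg.Agent.Lib.JankoReeSchur

open Subgroup

/-- An involution `t`, a four-group `V` and a Sylow 2-subgroup `S = ⟨t⟩V`, together with enough
fusion of `V` inside the centraliser of `t`. -/
structure Config (G : Type*) [Group G] [Finite G] where
  t : G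
  V : Subgroup G
  S : Sylow 2 G
  perf : commutator G = ⊤
  comm : ∀ a ∈ (S : Subgroup G), ∀ b ∈ (S : Subgroup G), a * b = b * a
  t_sq : t * t = 1
  t_ne : t ≠ 1
  t_mem : t ∈ (S : Subgroup G)
  V_le : V ≤ (S : Subgroup G)
  V_card : Nat.card V = 4
  V_sq : ∀ v ∈ V, v * v = 1
  cover : ∀ s ∈ (S : Subgroup G), s ∈ V ∨ t * s ∈ V
  moves : ∀ v ∈ V, v ≠ 1 → ∃ g : G, g * t = t * g ∧ (∀ u ∈ V, g * u * g⁻¹ ∈ V) ∧
    g ∈ Subgroup.normalizer ((S : Subgroup G) : Set G) ∧ g * v * g⁻¹ ≠ v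

variable {G : Type*} [Group G] [Finite G]

theorem mem_of_four {V U : Subgroup G} (hU : U ≤ V) (hV : Nat.card V = 4) {u w : G} (hu : u ∈ U)
    (hw : w ∈ U) (hu1 : u ≠ 1) (hw1 : w ≠ 1) (hne : u ≠ w) {x : G} (hx : x ∈ V) : x ∈ U := by
  classical
  have h2 : 3 ≤ Nat.card U := by
    haveI := Fintype.ofFinite U
    rw [Nat.card_eq_fintype_card]
    have h3 : ({⟨1, U.one_mem⟩, ⟨u, hu⟩, ⟨w, hw⟩} : Finset U).card = 3 :=
      Finset.card_eq_three.2 ⟨_, _, _, fun e => hu1 (congrArg Subtype.val e).symm,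
        fun e => hw1 (congrArg Subtype.val e).symm, fun e => hne (congrArg Subtype.val e), rfl⟩
    exact h3 ▸ Finset.card_le_univ _
  have h4 : Nat.card U ∣ 4 := hV ▸ Subgroup.card_dvd_of_le hU
  have h5 : Nat.card U = 4 := by
    have h6 := Nat.le_of_dvd (by norm_num) h4
    interval_cases h7 : Nat.card U <;> first | rfl | omega
  rw [Subgroup.eq_of_le_of_card_ge hU (by rw [hV, h5])]
  exact hx

/-- A perfect central extension of `G` by a 2-group is trivial. -/
theorem Config.center_bot (c : Config G) {L : Type*} [Group L] [Finite L] (π : L →* G)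
    (hπ : Function.Surjective π) (hker : π.ker ≤ Subgroup.center L) (hperf : commutator L = ⊤)
    (h2 : IsPGroup 2 π.ker) : π.ker = ⊥ := by
  classical
  haveI : Fact (Nat.Prime 2) := ⟨Nat.prime_two⟩
  set P' : Subgroup L := (c.S : Subgroup G).comap π with hP'
  have hPp : IsPGroup 2 P' := c.S.2.comap_of_ker_isPGroup π h2
  have hidx : ¬ 2 ∣ P'.index := by
    rw [hP', Subgroup.index_comap_of_surjective _ hπ]; exact c.S.not_dvd_index
  let P : Sylow 2 L := hPp.toSylow hidx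
  -- two elements with equal images differ by a central element
  have cen : ∀ {x y : L}, π x = π y → ∃ z ∈ Subgroup.center L, x = z * y := fun {x y} h =>
    ⟨x * y⁻¹, hker (by rw [MonoidHom.mem_ker, map_mul, map_inv, h, mul_inv_cancel]),
      (inv_mul_cancel_right x y).symm⟩
  have commOf : ∀ {x y y' : L}, π y = π y' → Commute x y → Commute x y' := by
    intro x y y' h hc
    obtain ⟨z, hz, e⟩ := cen h.symm
    rw [e]
    exact Commute.mul_right (Subgroup.mem_center_iff.1 hz x) hc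
  obtain ⟨x0, hx0⟩ := hπ c.t
  -- the lift of `t` commutes with the preimage of `V`
  let W : Subgroup G := (Subgroup.centralizer ({x0} : Set L)).map π ⊓ c.V
  have hWV : W ≤ c.V := inf_le_right
  have memW : ∀ {v : G}, v ∈ W → ∀ y : L, π y = v → Commute x0 y := by
    intro v hv y hy
    obtain ⟨y', hy', e⟩ := Subgroup.mem_map.1 hv.1
    exact commOf (e.trans hy.symm) (Subgroup.mem_centralizer_singleton_iff.1 hy').symm
  have conjW : ∀ {g : G}, g * c.t = c.t * g → (∀ u ∈ c.V, g * u * g⁻¹ ∈ c.V) →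
      ∀ v ∈ c.V, g * v * g⁻¹ * v⁻¹ ∈ W := by
    intro g hgt hgV v hv
    refine ⟨?_, c.V.mul_mem (hgV v hv) (c.V.inv_mem hv)⟩
    obtain ⟨gg, hgg⟩ := hπ g
    obtain ⟨y, hy⟩ := hπ v
    refine Subgroup.mem_map.2 ⟨gg * y * gg⁻¹ * y⁻¹, Subgroup.mem_centralizer_singleton_iff.2 ?_,
      by simp [hgg, hy]⟩
    -- `x0` is fixed by `gg` up to a central element
    obtain ⟨z, hz, hzx⟩ := cen (x := gg * x0 * gg⁻¹) (y := x0)
      (by simp [hgg, hx0, hgt])
    -- `[x0, y]` is central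
    obtain ⟨z', hz', hzy⟩ := cen (x := x0 * y) (y := y * x0) (by
      rw [map_mul, map_mul, hx0, hy]; exact c.comm _ c.t_mem _ (c.V_le hv))
    have hzc := Subgroup.mem_center_iff.1 hz
    have hzc' := Subgroup.mem_center_iff.1 hz'
    have h1 : x0 * (gg * y * gg⁻¹) = z' * ((gg * y * gg⁻¹) * x0) := by
      have h : gg * (x0 * y) * gg⁻¹ = gg * (z' * (y * x0)) * gg⁻¹ := by rw [hzy]
      rw [← mul_assoc gg z', hzc' gg,
        show gg * (x0 * y) * gg⁻¹ = (gg * x0 * gg⁻¹) * (gg * y * gg⁻¹) by group,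
        show z' * gg * (y * x0) * gg⁻¹ = z' * ((gg * y * gg⁻¹) * (gg * x0 * gg⁻¹)) by group, hzx,
        ← mul_assoc (gg * y * gg⁻¹) z x0, hzc (gg * y * gg⁻¹), mul_assoc z (gg * y * gg⁻¹) x0,
        ← mul_assoc z' z, ← hzc' z, mul_assoc z z', mul_assoc z x0] at h
      exact mul_left_cancel h
    have h2 : x0 * y⁻¹ = z'⁻¹ * (y⁻¹ * x0) := by
      apply mul_left_cancel (a := y)
      have h : y * (z'⁻¹ * (y⁻¹ * x0)) = z'⁻¹ * x0 := by
        rw [← mul_assoc, Subgroup.mem_center_iff.1 (inv_mem hz') y, mul_assoc, mul_inv_cancel_left]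
      rw [h, eq_inv_mul_iff_mul_eq, ← mul_assoc, ← mul_assoc, mul_inv_eq_iff_eq_mul, mul_assoc z' y]
      exact hzy.symm
    calc gg * y * gg⁻¹ * y⁻¹ * x0 = gg * y * gg⁻¹ * (z' * (x0 * y⁻¹)) := by
          rw [h2, mul_inv_cancel_left]; group
      _ = (z' * ((gg * y * gg⁻¹) * x0)) * y⁻¹ := by
          rw [← mul_assoc (gg * y * gg⁻¹) z', hzc' (gg * y * gg⁻¹)]; group
      _ = x0 * (gg * y * gg⁻¹ * y⁻¹) := by rw [← h1]; group
  have hWtop : ∀ v ∈ c.V, v ∈ W := by
    obtain ⟨v, hv, hv1⟩ : ∃ v ∈ c.V, v ≠ 1 := by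
      by_contra h; push Not at h
      have := c.V_card
      rw [(Subgroup.eq_bot_iff_forall _).2 h] at this
      simp at this
    obtain ⟨g, hgt, hgV, -, hgv⟩ := c.moves v hv hv1
    have hu := conjW hgt hgV v hv
    have hu1 : g * v * g⁻¹ * v⁻¹ ≠ 1 := fun e => hgv (mul_inv_eq_one.1 e)
    obtain ⟨g', hgt', hgV', -, hgu⟩ := c.moves _ (hWV hu) hu1
    have hu' : g' * (g * v * g⁻¹ * v⁻¹) * g'⁻¹ ∈ W := by
      have := mul_mem (conjW hgt' hgV' _ (hWV hu)) hu
      rwa [inv_mul_cancel_right] at this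
    intro x hx
    exact mem_of_four hWV c.V_card hu hu' hu1 (fun e => hu1 (conj_eq_one_iff.1 e)) (Ne.symm hgu) hx
  have hx0c : ∀ y ∈ P', Commute x0 y := by
    intro y hy
    rcases c.cover (π y) hy with h | h
    · exact memW (hWtop _ h) y rfl
    · have h1 := memW (hWtop _ h) (x0 * y) (by rw [map_mul, hx0])
      exact mul_left_cancel (a := x0) (by rw [h1.eq, mul_assoc] : x0 * (x0 * y) = x0 * (y * x0))
  -- a conjugate of `t` different from `t`
  obtain ⟨n, hn, hne⟩ := exists_normalizer_moves c.perf c.S c.comm c.t_mem c.t_ne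
  obtain ⟨nn, hnn⟩ := hπ n
  have hx1c : ∀ y ∈ P', Commute (nn * x0 * nn⁻¹) y := by
    intro y hy
    have hy' : nn⁻¹ * y * nn ∈ P' := by
      show π (nn⁻¹ * y * nn) ∈ (c.S : Subgroup G)
      rw [map_mul, map_mul, map_inv, hnn]
      have := (Subgroup.mem_normalizer_iff.1 (inv_mem hn) (π y)).1 hy
      rwa [inv_inv] at this
    have := (hx0c _ hy').map (MulAut.conj nn).toMonoidHom
    simpa [mul_assoc] using this
  have ht'S : n * c.t * n⁻¹ ∈ (c.S : Subgroup G) :=
    (Subgroup.mem_normalizer_iff.1 hn c.t).1 c.t_mem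
  obtain ⟨u, hu, hu1, yu, hyu, hyuc⟩ : ∃ u ∈ c.V, u ≠ 1 ∧ ∃ yu : L, π yu = u ∧
      ∀ y ∈ P', Commute yu y := by
    rcases c.cover _ ht'S with h | h
    · exact ⟨_, h, fun e => c.t_ne (conj_eq_one_iff.1 e), nn * x0 * nn⁻¹, by simp [hnn, hx0], hx1c⟩
    · refine ⟨_, h, fun e => hne ?_, x0 * (nn * x0 * nn⁻¹), by simp [hnn, hx0],
        fun y hy => (hx0c y hy).mul_left (hx1c y hy)⟩
      exact mul_left_cancel (e.trans c.t_sq.symm)
  obtain ⟨w, hw, hw1, hwu⟩ : ∃ w ∈ c.V, w ≠ 1 ∧ w ≠ u := by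
    obtain ⟨g, -, hgV, -, hgu⟩ := c.moves u hu hu1
    exact ⟨_, hgV u hu, fun e => hu1 (conj_eq_one_iff.1 e), hgu⟩
  obtain ⟨yw, hyw⟩ := hπ w
  -- the centraliser of `yw` contains the preimage of `S`
  have hywc : ∀ y ∈ P', Commute yw y := by
    intro y hy
    have hywP : yw ∈ P' := by show π yw ∈ (c.S : Subgroup G); rw [hyw]; exact c.V_le hw
    let U : Subgroup G := (Subgroup.centralizer ({yw} : Set L)).map π
    have hUV : ∀ v ∈ c.V, v ∈ U := fun v hv =>
      (mem_of_four (U := U ⊓ c.V) inf_le_right c.V_card (u := u) (w := w)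
        ⟨⟨yu, Subgroup.mem_centralizer_singleton_iff.2 (hyuc yw hywP).eq, hyu⟩, hu⟩
        ⟨⟨yw, Subgroup.mem_centralizer_singleton_iff.2 rfl, hyw⟩, hw⟩ hu1 hw1 hwu.symm hv).1
    have htU : c.t ∈ U :=
      ⟨x0, Subgroup.mem_centralizer_singleton_iff.2 (hx0c yw hywP).eq, hx0⟩
    have hyU : π y ∈ U := by
      rcases c.cover _ hy with h | h
      · exact hUV _ h
      · have := mul_mem (inv_mem htU) (hUV _ h)
        rwa [inv_mul_cancel_left] at this
    obtain ⟨y', hy', e⟩ := Subgroup.mem_map.1 hyU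
    exact commOf e (Subgroup.mem_centralizer_singleton_iff.1 hy').symm
  have hPc : ∀ a ∈ (P : Subgroup L), ∀ b ∈ (P : Subgroup L), a * b = b * a := by
    intro a ha b hb
    let U : Subgroup G := (Subgroup.centralizer (P' : Set L)).map π
    have hUV : ∀ v ∈ c.V, v ∈ U := fun v hv =>
      (mem_of_four (U := U ⊓ c.V) inf_le_right c.V_card (u := u) (w := w)
        ⟨⟨yu, fun h hh => (hyuc h hh).symm.eq, hyu⟩, hu⟩
        ⟨⟨yw, fun h hh => (hywc h hh).symm.eq, hyw⟩, hw⟩ hu1 hw1 hwu.symm hv).1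
    have htU : c.t ∈ U := ⟨x0, fun h hh => (hx0c h hh).symm.eq, hx0⟩
    have hbU : π b ∈ U := by
      rcases c.cover _ hb with h | h
      · exact hUV _ h
      · have := mul_mem (inv_mem htU) (hUV _ h)
        rwa [inv_mul_cancel_left] at this
    obtain ⟨b', hb', e⟩ := Subgroup.mem_map.1 hbU
    exact (commOf e (hb' a ha : a * b' = b' * a)).eq
  rw [Subgroup.eq_bot_iff_forall]
  intro z hz
  refine eq_one_of_central hperf P hPc (hker hz) ?_
  show π z ∈ (c.S : Subgroup G)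
  rw [MonoidHom.mem_ker.1 hz]
  exact one_mem _

/-- An automorphism of 2-power order fixing `C(t)` pointwise is inner. -/
theorem Config.inner_of_fix_centralizer (c : Config G)
    (hmax : IsCoatom (Subgroup.centralizer ({c.t} : Set G))) (ψ : MulAut G) {k : ℕ}
    (hψ : ψ ^ 2 ^ k = 1) (hfix : ∀ x : G, x * c.t = c.t * x → ψ x = x) :
    ∃ g : G, ψ = MulAut.conj g := by
  classical
  haveI : Fact (Nat.Prime 2) := ⟨Nat.prime_two⟩
  set Nm := Subgroup.normalizer ((c.S : Subgroup G) : Set G) with hNm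
  have hSfix : ∀ s ∈ (c.S : Subgroup G), ψ s = s := fun s hs => hfix s (c.comm s hs _ c.t_mem)
  have hd : ∀ g : Nm, (g : G)⁻¹ * ψ g ∈ (c.S : Subgroup G) := by
    intro g
    have hcs : ∀ s ∈ (c.S : Subgroup G),
        ((g : G)⁻¹ * ψ g) * s = s * ((g : G)⁻¹ * ψ g) := by
      intro s hs
      have h1 := hSfix _ ((Subgroup.mem_normalizer_iff.1 g.2 s).1 hs)
      rw [map_mul, map_mul, map_inv, hSfix s hs] at h1
      calc ((g : G)⁻¹ * ψ g) * s = (g : G)⁻¹ * (ψ g * s * (ψ g)⁻¹) * ψ g := by group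
        _ = s * ((g : G)⁻¹ * ψ g) := by rw [h1]; group
    have hdfix : ψ ((g : G)⁻¹ * ψ g) = (g : G)⁻¹ * ψ g := hfix _ (hcs _ c.t_mem)
    have hpow : ∀ j : ℕ, (ψ ^ j) (g : G) = g * ((g : G)⁻¹ * ψ g) ^ j := by
      intro j
      induction j with
      | zero => simp
      | succ j ih =>
        rw [pow_succ', MulAut.mul_apply, ih, map_mul, map_pow, hdfix, pow_succ', ← mul_assoc,
          ← mul_assoc, mul_inv_cancel, one_mul]
    have hone : ((g : G)⁻¹ * ψ g) ^ 2 ^ k = 1 := by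
      have := hpow (2 ^ k)
      rw [hψ] at this
      exact (mul_eq_left.1 this.symm)
    have hp : IsPGroup 2 (Subgroup.zpowers ((g : G)⁻¹ * ψ g)) := by
      obtain ⟨i, -, hi⟩ := (Nat.dvd_prime_pow Nat.prime_two).1 (orderOf_dvd_of_pow_eq_one hone)
      exact IsPGroup.of_card (n := i) (by rw [Nat.card_zpowers, hi])
    have hle : Subgroup.zpowers ((g : G)⁻¹ * ψ g) ≤ Nm := by
      rw [Subgroup.zpowers_le]
      refine Subgroup.mem_normalizer_fintype fun s hs => ?_
      rw [hcs s hs, mul_inv_cancel_right]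
      exact hs
    have h3 := hp.to_sup_of_normal_right' c.S.2 hle
    exact (le_sup_left.trans (le_of_eq (c.S.3 h3 le_sup_right))) (Subgroup.mem_zpowers _)
  letI : CommGroup (c.S : Subgroup G) :=
    { (c.S : Subgroup G).toGroup with mul_comm := fun a b => Subtype.ext (c.comm a a.2 b b.2) }
  let d : Nm → (c.S : Subgroup G) := fun g => ⟨_, hd g⟩
  let S' : Subgroup Nm := (c.S : Subgroup G).subgroupOf Nm
  haveI hS' : S'.Normal := Subgroup.normal_in_normalizer
  have hdS : ∀ (g : Nm) (s : Nm), s ∈ S' → d (g * s) = d g := by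
    intro g s hs
    refine Subtype.ext ?_
    show ((g : G) * s)⁻¹ * ψ ((g : G) * s) = (g : G)⁻¹ * ψ g
    rw [map_mul, hSfix (s : G) hs, mul_inv_rev, mul_assoc, ← mul_assoc (g : G)⁻¹,
      c.comm _ (hd g) (s : G) hs, inv_mul_cancel_left]
  let D : Nm ⧸ S' → (c.S : Subgroup G) := fun q => Quotient.liftOn' q d (fun a b hab => by
    have h := hdS a (a⁻¹ * b) (QuotientGroup.leftRel_apply.1 hab)
    rw [mul_inv_cancel_left] at h
    exact h.symm)
  have hD : ∀ g : Nm, D (QuotientGroup.mk g) = d g := fun g => rfl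
  haveI := Fintype.ofFinite (Nm ⧸ S')
  set Q : (c.S : Subgroup G) := ∏ q, D q with hQ
  have hm : Odd (Fintype.card (Nm ⧸ S')) := by
    rw [← Nat.card_eq_fintype_card, Nat.odd_iff]
    have h1 : S'.index ∣ (c.S : Subgroup G).index :=
      ⟨Nm.index, (Subgroup.relIndex_mul_index (Subgroup.le_normalizer)).symm⟩
    have h2 : ¬ 2 ∣ S'.index := fun h => c.S.not_dvd_index (h.trans h1)
    show S'.index % 2 = 1
    omega
  have key : ∀ h : Nm, ψ (h : G) = (Q : G)⁻¹ * h * Q := by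
    intro h
    let ch : (c.S : Subgroup G) →* (c.S : Subgroup G) :=
      { toFun := fun s => ⟨(h : G)⁻¹ * s * h, by
          have := (Subgroup.mem_normalizer_iff.1 (inv_mem h.2) (s : G)).1 s.2
          rwa [inv_inv] at this⟩
        map_one' := Subtype.ext (by simp)
        map_mul' := fun a b => Subtype.ext (by simp [mul_assoc]) }
    have hcoc : ∀ q : Nm ⧸ S', D (q * QuotientGroup.mk h) = ch (D q) * d h := by
      intro q
      induction q using QuotientGroup.induction_on with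
      | _ g =>
        rw [← QuotientGroup.mk_mul, hD, hD]
        refine Subtype.ext ?_
        show ((g : G) * h)⁻¹ * ψ ((g : G) * h) = (h : G)⁻¹ * ((g : G)⁻¹ * ψ g) * h * ((h : G)⁻¹ * ψ h)
        rw [map_mul]; group
    have hsum : Q = ch Q * d h ^ Fintype.card (Nm ⧸ S') := by
      rw [hQ, map_prod]
      conv_lhs => rw [← Equiv.prod_comp (Equiv.mulRight (QuotientGroup.mk h : Nm ⧸ S')) D]
      simp only [Equiv.coe_mulRight, hcoc, Finset.prod_mul_distrib, Finset.prod_const,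
        Finset.card_univ]
    have hdsq : d h * d h = 1 := by
      refine Subtype.ext ?_
      show (d h : G) * (d h : G) = 1
      rcases c.cover _ (d h).2 with e | e
      · exact c.V_sq _ e
      · have := c.V_sq _ e
        rwa [mul_assoc, ← mul_assoc (d h : G) c.t, c.comm _ (d h).2 _ c.t_mem, mul_assoc,
          ← mul_assoc, c.t_sq, one_mul] at this
    have hpow : d h ^ Fintype.card (Nm ⧸ S') = d h := by
      obtain ⟨i, hi⟩ := hm
      rw [hi, pow_succ, pow_mul, sq, hdsq, one_pow, one_mul]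
    rw [hpow] at hsum
    have e : (Q : G) = (h : G)⁻¹ * Q * h * ((h : G)⁻¹ * ψ h) := congrArg Subtype.val hsum
    calc ψ (h : G) = (Q : G)⁻¹ * h * ((h : G)⁻¹ * Q * h * ((h : G)⁻¹ * ψ h)) := by group
      _ = (Q : G)⁻¹ * h * Q := by rw [← e]
  -- the conjugating element commutes with `C(t)`
  have hQt : (Q : G) = 1 ∨ (Q : G) = c.t := by
    have hcomm : ∀ g : G, g * c.t = c.t * g → g ∈ Nm → g * (Q : G) = Q * g := by
      intro g hg hgN
      have h1 := key ⟨g, hgN⟩
      rw [hfix g hg] at h1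
      exact eq_inv_mul_iff_mul_eq.1 (by rw [← mul_assoc]; exact h1) |>.symm
    rcases c.cover _ Q.2 with e | e
    · left
      by_contra h1
      obtain ⟨g, hgt, -, hgN, hgv⟩ := c.moves _ e h1
      exact hgv (mul_inv_eq_iff_eq_mul.2 (hcomm g hgt hgN))
    · right
      by_contra h1
      have h2 : c.t * (Q : G) ≠ 1 := fun h => h1 (mul_left_cancel (h.trans c.t_sq.symm))
      obtain ⟨g, hgt, -, hgN, hgv⟩ := c.moves _ e h2
      refine hgv (mul_inv_eq_iff_eq_mul.2 ?_)
      rw [← mul_assoc, hgt, mul_assoc, hcomm g hgt hgN, mul_assoc]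
  let K : Subgroup G := ψ.toMonoidHom.eqLocus (MulAut.conj (Q : G)⁻¹).toMonoidHom
  have hK : K = ⊤ := by
    obtain ⟨n, hn, hne⟩ := exists_normalizer_moves c.perf c.S c.comm c.t_mem c.t_ne
    have hCK : Subgroup.centralizer ({c.t} : Set G) ≤ K := by
      intro x hx
      show ψ x = MulAut.conj (Q : G)⁻¹ x
      rw [hfix x (Subgroup.mem_centralizer_singleton_iff.1 hx), MulAut.conj_apply]
      rcases hQt with e | e <;> rw [e]
      · group
      · rw [inv_inv, inv_eq_of_mul_eq_one_right c.t_sq,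
          ← Subgroup.mem_centralizer_singleton_iff.1 hx, mul_assoc, c.t_sq, mul_one]
    have hnK : n ∈ K := by
      show ψ n = MulAut.conj (Q : G)⁻¹ n
      rw [MulAut.conj_apply, inv_inv]
      exact key ⟨n, hn⟩
    refine hmax.2 K (lt_of_le_of_ne hCK fun e => hne ?_)
    have := Subgroup.mem_centralizer_singleton_iff.1 (e ▸ hnK : n ∈ Subgroup.centralizer {c.t})
    rw [this, mul_inv_cancel_right]
  exact ⟨(Q : G)⁻¹, MulEquiv.ext fun x => (hK ▸ Subgroup.mem_top x : x ∈ K)⟩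

end Cfsg.Agent.Lib.JankoReeSchur
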