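import Cfsg.Agent.Lib.JankoReeSchur.Gen
import Cfsg.Agent.Lib.Similarity.OutPSL
import Cfsg.Agent.Lib.SL2.ToriExist
import Cfsg.Agent.Lib.SL2.SylowTwo
import Cfsg.Agent.Lib.SL2.Commutant
import Cfsg.Agent.Lib.LinGroup.Simple

/-!
`PSL₂(q)` with abelian Sylow 2-subgroups, `q` odd: the four-group and the automorphisms
centralising it.
-/

set_option autoImplicit false

namespace Cfsg.Agent.Lib.JankoReeSchur

open Cfsg.Agent.Lib

variable {F : Type*} [Field F] [Fintype F]

open SL2 in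
theorem card_mod_eight (hodd : Odd (Fintype.card F)) (h4 : 4 ≤ Fintype.card F)
    (hab : ∀ P : Sylow 2 (PSLtwo F), ∀ a ∈ (P : Subgroup (PSLtwo F)),
      ∀ b ∈ (P : Subgroup (PSLtwo F)), a * b = b * a) :
    Fintype.card F % 8 = 3 ∨ Fintype.card F % 8 = 5 := by
  classical
  haveI : Fact (Nat.Prime 2) := ⟨Nat.prime_two⟩
  have hq := Nat.odd_iff.1 hodd
  by_contra hne
  push Not at hne
  have hgcd : Nat.gcd 2 (Fintype.card F - 1) = 2 := Nat.gcd_eq_left (by omega)
  obtain ⟨g, hsemi, hdvd⟩ : ∃ g : SLtwo F, IsSemi (proj g) ∧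
      4 ∣ Nat.card (torus (proj g)) := by
    rcases (show Fintype.card F % 8 = 1 ∨ Fintype.card F % 8 = 7 by omega) with h | h
    · obtain ⟨g, hg⟩ := exists_split (F := F) h4
      exact ⟨g, ⟨g, rfl, Or.inr hg⟩, by rw [card_torus_split hg, hgcd]; omega⟩
    · obtain ⟨g, hg⟩ := exists_elliptic (F := F)
      exact ⟨g, ⟨g, rfl, Or.inl hg⟩, by rw [card_torus_elliptic hg, hgcd]; omega⟩
  obtain ⟨n, hn, hn'⟩ := exists_inverter hsemi
  obtain ⟨hn2, hinv⟩ := normalizer_torus_inverts hsemi hn hn'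
  haveI := isCyclic_torus_semi hsemi
  obtain ⟨x, hx⟩ := IsCyclic.exists_generator (α := torus (proj g))
  have hox : orderOf x = Nat.card (torus (proj g)) := orderOf_eq_card_of_forall_mem_zpowers hx
  set y : PSLtwo F := ((x ^ (Nat.card (torus (proj g)) / 4) : torus (proj g)) : PSLtwo F) with hy
  have hoy : orderOf y = 4 := by
    rw [hy, Subgroup.orderOf_coe, orderOf_pow_of_dvd (Nat.div_pos (Nat.le_of_dvd Nat.card_pos hdvd)
      (by norm_num)).ne' (by rw [hox]; exact Nat.div_dvd_of_dvd hdvd), hox, Nat.div_div_self hdvd Nat.card_pos.ne']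
  have hyn : n * y * n⁻¹ = y⁻¹ := hinv y (SetLike.coe_mem _)
  have hp1 : IsPGroup 2 (Subgroup.zpowers y) :=
    IsPGroup.of_card (n := 2) (by rw [Nat.card_zpowers, hoy]; norm_num)
  have hp2 : IsPGroup 2 (Subgroup.zpowers n) := by
    rintro ⟨w, k, rfl⟩
    refine ⟨1, Subtype.ext ?_⟩
    show (n ^ k) ^ (2 ^ 1) = 1
    rw [← zpow_natCast, ← zpow_mul, mul_comm, zpow_mul]
    simp [pow_two, hn2]
  have hle : Subgroup.zpowers n ≤ Subgroup.normalizer ((Subgroup.zpowers y : Subgroup _) : Set (PSLtwo F)) := by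
    rw [Subgroup.zpowers_le]
    refine Subgroup.mem_normalizer_fintype fun w hw => ?_
    obtain ⟨k, rfl⟩ := Subgroup.mem_zpowers_iff.1 hw
    rw [conj_zpow.symm, hyn]
    exact zpow_mem (Subgroup.inv_mem _ (Subgroup.mem_zpowers y)) k
  obtain ⟨P, hP⟩ := (hp2.to_sup_of_normal_right' hp1 hle).exists_le_sylow
  have hc := hab P n (hP (le_sup_left (a := Subgroup.zpowers n) (Subgroup.mem_zpowers n)))
    y (hP (le_sup_right (b := Subgroup.zpowers y) (Subgroup.mem_zpowers y)))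
  rw [hc, mul_inv_cancel_right] at hyn
  have h2 : y ^ 2 = 1 := by rw [sq]; exact mul_eq_one_iff_eq_inv.2 hyn
  have := orderOf_dvd_of_pow_eq_one h2
  rw [hoy] at this
  omega

open SL2 in
theorem card_sylow_four (h8 : Fintype.card F % 8 = 3 ∨ Fintype.card F % 8 = 5)
    (P : Sylow 2 (PSLtwo F)) : Nat.card (P : Subgroup (PSLtwo F)) = 4 := by
  classical
  haveI : Fact (Nat.Prime 2) := ⟨Nat.prime_two⟩
  have h := card_PSL_mul (F := F)
  rw [Nat.gcd_eq_left (show 2 ∣ Fintype.card F - 1 by omega)] at h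
  obtain ⟨m, hm, hcard⟩ : ∃ m, m % 2 = 1 ∧ Nat.card (PSLtwo F) = 2 ^ 2 * m := by
    have hsq : Fintype.card F ^ 2 - 1 = (Fintype.card F - 1) * (Fintype.card F + 1) := by
      rw [mul_comm, ← Nat.sq_sub_sq, one_pow]
    rcases h8 with h8 | h8
    · obtain ⟨k, hk⟩ : ∃ k, Fintype.card F = 8 * k + 3 := ⟨Fintype.card F / 8, by omega⟩
      refine ⟨(8 * k + 3) * ((4 * k + 1) * (2 * k + 1)), ?_, ?_⟩
      · simp [Nat.mul_mod, Nat.add_mod]
      · rw [hsq, hk, show 8 * k + 3 - 1 = 2 * (4 * k + 1) by omega,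
          show 8 * k + 3 + 1 = 4 * (2 * k + 1) by omega] at h
        apply Nat.eq_of_mul_eq_mul_right (show 0 < 2 by norm_num)
        rw [h]; ring
    · obtain ⟨k, hk⟩ : ∃ k, Fintype.card F = 8 * k + 5 := ⟨Fintype.card F / 8, by omega⟩
      refine ⟨(8 * k + 5) * ((2 * k + 1) * (4 * k + 3)), ?_, ?_⟩
      · simp [Nat.mul_mod, Nat.add_mod]
      · rw [hsq, hk, show 8 * k + 5 - 1 = 4 * (2 * k + 1) by omega,
          show 8 * k + 5 + 1 = 2 * (4 * k + 3) by omega] at h
        apply Nat.eq_of_mul_eq_mul_right (show 0 < 2 by norm_num)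
        rw [h]; ring
  rw [Sylow.card_eq_multiplicity, hcard, Nat.factorization_mul (by norm_num) (by omega),
    Finsupp.add_apply, Nat.Prime.factorization_pow Nat.prime_two, Finsupp.single_eq_same,
    Nat.factorization_eq_zero_of_not_dvd (show ¬ 2 ∣ m by omega)]
  norm_num

theorem fieldExp_odd {p f : ℕ} (hF : Fintype.card F = p ^ f)
    (h8 : Fintype.card F % 8 = 3 ∨ Fintype.card F % 8 = 5) : Odd f := by
  by_contra hf
  obtain ⟨k, rfl⟩ := Nat.not_odd_iff_even.1 hf
  have h : Fintype.card F = p ^ k * p ^ k := by rw [hF, pow_add]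
  have hlt := Nat.mod_lt (p ^ k) (show 8 > 0 by norm_num)
  rw [h, Nat.mul_mod] at h8
  revert h8 hlt
  generalize p ^ k % 8 = r
  intro hlt h8
  interval_cases r <;> omega

section Aut

open SL2

private theorem mat_neg (a : SLtwo F) :
    ((-a : SLtwo F) : Matrix (Fin 2) (Fin 2) F) = -(a : Matrix (Fin 2) (Fin 2) F) := by
  simp

private theorem mul_self_eq_neg_one (h2 : (2 : F) ≠ 0) {a : SLtwo F}
    (hv : (SL2.proj (a * a) : PSLtwo F) = 1) (ha : (SL2.proj a : PSLtwo F) ≠ 1) : a * a = -1 := by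
  rcases (mem_center_iff_eq _).1 (proj_eq_one_iff.1 hv) with h | h
  · exact absurd (proj_eq_one_iff.2 (mem_center_of_mul_self h2 h)) ha
  · exact h

/-- An automorphism of 2-power order of `PSL₂(q)`, `q ≡ ±3 (mod 8)`, centralising a four-group is
inner by an element of that four-group. -/
theorem aut_inner_of_fix (h8 : Fintype.card F % 8 = 3 ∨ Fintype.card F % 8 = 5)
    {β : MulAut (PSLtwo F)} {k : ℕ} (hβ : β ^ 2 ^ k = 1) {v w : PSLtwo F} (hv : v * v = 1)
    (hw : w * w = 1) (hvw : v * w = w * v) (hv1 : v ≠ 1) (hw1 : w ≠ 1) (hne : v ≠ w)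
    (hfv : β v = v) (hfw : β w = w) :
    β = MulAut.conj (1 : PSLtwo F) ∨ β = MulAut.conj v ∨ β = MulAut.conj w ∨
      β = MulAut.conj (v * w) := by
  classical
  have hodd : Odd (Fintype.card F) := Nat.odd_iff.2 (by omega)
  have h2 : (2 : F) ≠ 0 := two_ne_zero_iff_odd.2 hodd
  obtain ⟨p, hp⟩ := CharP.exists F
  haveI : Fact p.Prime := ⟨CharP.char_is_prime F p⟩
  obtain ⟨f, -, hF⟩ := FiniteField.card F p
  -- `β` is conjugation by a linear map followed by a field automorphism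
  obtain ⟨w0, hw0⟩ := PSLAut.invTrans_eq_conj_two (F := F)
  obtain ⟨g, σ, hgσ⟩ : ∃ g σ, β = PSLAut.conj g * PSLAut.fieldAut σ := by
    obtain ⟨g, σ, ε, hε, rfl⟩ := PSLAut.exists_eq_conj_mul_fieldAut_mul le_rfl β
    rcases hε with rfl | rfl
    · exact ⟨g, σ, by rw [mul_one]⟩
    · exact ⟨g * PSLAut.glField σ w0, σ, by
        rw [hw0, map_mul, mul_assoc, PSLAut.fieldAut_mul_conj, ← mul_assoc]⟩
  have hσ : σ = 1 := by
    haveI := Similarity.conjRange_normal (F := F) (le_refl 2)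
    let R := (PSLAut.conj : GL (Fin 2) F →* MulAut (PSLAut.PSLn 2 F)).range
    have h1 : (QuotientGroup.mk' R β) = QuotientGroup.mk' R (PSLAut.fieldAut σ) := by
      have hg : QuotientGroup.mk' R (PSLAut.conj g) = 1 :=
        (QuotientGroup.eq_one_iff (N := R) (PSLAut.conj g)).2 ⟨g, rfl⟩
      rw [hgσ, map_mul, hg, one_mul]
    have h3 : QuotientGroup.mk' R (PSLAut.fieldAut (σ ^ 2 ^ k)) = 1 := by
      rw [map_pow, map_pow, ← h1, ← map_pow, hβ, map_one]
    obtain ⟨g', hg'⟩ := (QuotientGroup.eq_one_iff (N := R) _).1 h3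
    have hσk : σ ^ 2 ^ k = 1 := (PSLAut.conj_eq_fieldAut le_rfl hg').1
    have hcop : Nat.Coprime (2 ^ k) (Nat.card (F ≃+* F)) := by
      rw [PSLAut.card_ringEquiv hF]
      exact (Nat.coprime_two_left.2 (fieldExp_odd hF h8)).pow_left k
    have h4 := pow_gcd_eq_one.2 ⟨hσk, (pow_card_eq_one' : σ ^ Nat.card (F ≃+* F) = 1)⟩
    rwa [hcop.gcd_eq_one, pow_one] at h4
  rw [hσ, map_one, mul_one] at hgσ
  obtain ⟨a, rfl⟩ := SL2.proj_surjective v
  obtain ⟨b, rfl⟩ := SL2.proj_surjective w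
  have ha2 : a * a = -1 := mul_self_eq_neg_one h2 (by rw [map_mul]; exact hv) hv1
  have hb2 : b * b = -1 := mul_self_eq_neg_one h2 (by rw [map_mul]; exact hw) hw1
  have hab : b * a = -(a * b) := by
    rcases proj_eq_proj_iff.1 (show SL2.proj (a * b) = SL2.proj (b * a) by
      rw [map_mul, map_mul]; exact hvw) with h | h
    · exfalso
      have h5 : a * b * (a * b) = 1 := by
        rw [show a * b * (a * b) = a * (b * a) * b by group, h,
          show a * (a * b) * b = a * a * (b * b) by group, ha2, hb2, neg_mul_neg, one_mul]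
      have h6 := proj_eq_one_iff.2 (mem_center_of_mul_self h2 h5)
      rw [map_mul] at h6
      exact hne (mul_right_cancel (h6.trans hw.symm))
    · exact h
  set A : Matrix (Fin 2) (Fin 2) F := (a : Matrix (Fin 2) (Fin 2) F) with hA
  set B : Matrix (Fin 2) (Fin 2) F := (b : Matrix (Fin 2) (Fin 2) F) with hB
  have hBA : B * A = -(A * B) := by
    rw [hA, hB, ← Matrix.SpecialLinearGroup.coe_mul, ← Matrix.SpecialLinearGroup.coe_mul, ← mat_neg,
      hab]
  have hA2 : A * A = -1 := by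
    rw [hA, ← Matrix.SpecialLinearGroup.coe_mul, ha2, mat_neg, Matrix.SpecialLinearGroup.coe_one]
  have hB2 : B * B = -1 := by
    rw [hB, ← Matrix.SpecialLinearGroup.coe_mul, hb2, mat_neg, Matrix.SpecialLinearGroup.coe_one]
  -- the conjugator maps `a, b` to `±a, ±b`
  have sgn : ∀ {s : SLtwo F}, β (SL2.proj s) = SL2.proj s →
      ∃ ε : F, (ε = 1 ∨ ε = -1) ∧ (g : Matrix (Fin 2) (Fin 2) F) * (s : Matrix (Fin 2) (Fin 2) F) =
        ε • ((s : Matrix (Fin 2) (Fin 2) F) * (g : Matrix (Fin 2) (Fin 2) F)) := by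
    intro s hs
    rw [hgσ] at hs
    have hs' : SL2.proj (PSLAut.slConjFun g s) = SL2.proj s := hs
    rcases proj_eq_proj_iff.1 hs' with h | h
    · refine ⟨1, Or.inl rfl, ?_⟩
      conv_rhs => rw [h]
      rw [one_smul, PSLAut.coe_slConjFun, Matrix.mul_assoc _ _ (g : Matrix (Fin 2) (Fin 2) F),
        ← Units.val_mul, inv_mul_cancel, Units.val_one, Matrix.mul_one]
    · refine ⟨-1, Or.inr rfl, ?_⟩
      conv_rhs => rw [h]
      rw [mat_neg, PSLAut.coe_slConjFun, Matrix.neg_mul, Matrix.mul_assoc _ _ (g : Matrix (Fin 2) (Fin 2) F),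
        ← Units.val_mul, inv_mul_cancel, Units.val_one, Matrix.mul_one]
      simp
  obtain ⟨ε, hε, hgA⟩ := sgn hfv
  obtain ⟨δ, hδ, hgB⟩ := sgn hfw
  rw [← hA] at hgA
  rw [← hB] at hgB
  obtain ⟨m, hm, hmA, hmB⟩ : ∃ m : SLtwo F, (m = 1 ∨ m = a ∨ m = b ∨ m = a * b) ∧
      (m : Matrix (Fin 2) (Fin 2) F) * A = ε • (A * (m : Matrix (Fin 2) (Fin 2) F)) ∧
      (m : Matrix (Fin 2) (Fin 2) F) * B = δ • (B * (m : Matrix (Fin 2) (Fin 2) F)) := by
    rcases hε with rfl | rfl <;> rcases hδ with rfl | rfl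
    · exact ⟨1, Or.inl rfl, by simp, by simp⟩
    · exact ⟨a, Or.inr (Or.inl rfl), by rw [← hA, one_smul],
        by rw [← hA, hBA]; simp⟩
    · exact ⟨b, Or.inr (Or.inr (Or.inl rfl)), by rw [← hB, hBA]; simp,
        by rw [← hB, one_smul]⟩
    · refine ⟨a * b, Or.inr (Or.inr (Or.inr rfl)), ?_, ?_⟩ <;>
        rw [Matrix.SpecialLinearGroup.coe_mul, ← hA, ← hB]
      · rw [Matrix.mul_assoc, hBA, Matrix.mul_neg]; simp
      · rw [← Matrix.mul_assoc B, hBA]; simp [Matrix.mul_assoc, hB2]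
  set Mi : Matrix (Fin 2) (Fin 2) F := ((m⁻¹ : SLtwo F) : Matrix (Fin 2) (Fin 2) F) with hMi
  have hMM : Mi * (m : Matrix (Fin 2) (Fin 2) F) = 1 := by
    rw [hMi, ← Matrix.SpecialLinearGroup.coe_mul, inv_mul_cancel, Matrix.SpecialLinearGroup.coe_one]
  have hMM' : (m : Matrix (Fin 2) (Fin 2) F) * Mi = 1 := by
    rw [hMi, ← Matrix.SpecialLinearGroup.coe_mul, mul_inv_cancel, Matrix.SpecialLinearGroup.coe_one]
  have comm : ∀ {T : Matrix (Fin 2) (Fin 2) F} {η : F}, η ≠ 0 →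
      (g : Matrix (Fin 2) (Fin 2) F) * T = η • (T * (g : Matrix (Fin 2) (Fin 2) F)) →
      (m : Matrix (Fin 2) (Fin 2) F) * T = η • (T * (m : Matrix (Fin 2) (Fin 2) F)) →
      Mi * (g : Matrix (Fin 2) (Fin 2) F) * T = T * (Mi * (g : Matrix (Fin 2) (Fin 2) F)) := by
    intro T η hη h hh
    have h7 : T * Mi = η • (Mi * T) := by
      calc T * Mi = Mi * ((m : Matrix (Fin 2) (Fin 2) F) * T) * Mi := by
            rw [← Matrix.mul_assoc, hMM, Matrix.one_mul]
        _ = η • (Mi * T) := by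
            rw [hh, Matrix.mul_smul, Matrix.smul_mul, ← Matrix.mul_assoc Mi T,
              Matrix.mul_assoc (Mi * T), hMM', Matrix.mul_one]
    rw [Matrix.mul_assoc, h, Matrix.mul_smul, ← Matrix.mul_assoc T Mi, h7, Matrix.smul_mul,
      Matrix.mul_assoc]
  have hε0 : ε ≠ 0 := by rcases hε with rfl | rfl <;> simp
  have hδ0 : δ ≠ 0 := by rcases hδ with rfl | rfl <;> simp
  have cA := comm hε0 hgA hmA
  have cB := comm hδ0 hgB hmB
  have hAns : ¬ IsScalarMat A := fun h =>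
    hv1 (proj_eq_one_iff.2 ((isScalarMat_iff_mem_center a).1 h))
  obtain ⟨⟨x, y⟩, hz⟩ := exists_commElt hAns cA
  have hy : y = 0 := by
    rw [hz] at cB
    simp only [commElt, Matrix.add_mul, Matrix.mul_add, Matrix.smul_mul, Matrix.mul_smul,
      Matrix.one_mul, Matrix.mul_one, add_right_inj] at cB
    rw [hBA, smul_neg, eq_neg_iff_add_eq_zero, ← two_smul F, smul_smul, smul_eq_zero] at cB
    refine ((mul_eq_zero.1 (cB.resolve_right ?_))).resolve_left h2
    intro h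
    have h9 : A * B * B = 0 := by rw [h, Matrix.zero_mul]
    rw [Matrix.mul_assoc, hB2, Matrix.mul_neg, Matrix.mul_one, neg_eq_zero] at h9
    exact hAns ⟨by rw [h9]; simp, by rw [h9]; simp, by rw [h9]; simp⟩
  have hgm : (g : Matrix (Fin 2) (Fin 2) F) = x • (m : Matrix (Fin 2) (Fin 2) F) := by
    calc (g : Matrix (Fin 2) (Fin 2) F)
        = (m : Matrix (Fin 2) (Fin 2) F) * (Mi * (g : Matrix (Fin 2) (Fin 2) F)) := by
          rw [← Matrix.mul_assoc, hMM', Matrix.one_mul]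
      _ = _ := by rw [hz, hy]; simp [commElt]
  have hx : x ≠ 0 := by
    rintro rfl
    rw [zero_smul] at hgm
    exact g.ne_zero hgm
  have hgu : g = Matrix.GeneralLinearGroup.scalar (Fin 2) (Units.mk0 x hx) *
      Matrix.SpecialLinearGroup.toGL m := by
    refine Units.ext ?_
    rw [hgm, Units.val_mul]
    simp [Matrix.smul_eq_diagonal_mul]
  have hfin : β = MulAut.conj (SL2.proj m) := by
    rw [hgσ, hgu, PSLAut.conj_scalar_mul, PSLAut.conj_toGL]; rfl
  rcases hm with rfl | rfl | rfl | rfl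
  · exact Or.inl (by rw [hfin, map_one (SL2.proj (F := F))])
  · exact Or.inr (Or.inl hfin)
  · exact Or.inr (Or.inr (Or.inl hfin))
  · exact Or.inr (Or.inr (Or.inr (by rw [hfin, map_mul SL2.proj])))

end Aut

/-- The properties of a group isomorphic to `PSL₂(q)` with abelian Sylow 2-subgroup `P`. -/
theorem fourGroup_facts {X : Type*} [Group X] [Finite X] (ι : X ≃* SL2.PSLtwo F)
    (hodd : Odd (Fintype.card F)) (h4 : 4 ≤ Fintype.card F)
    (hab : ∀ P : Sylow 2 X, ∀ a ∈ (P : Subgroup X), ∀ b ∈ (P : Subgroup X), a * b = b * a) :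
    IsSimpleGroup X ∧ commutator X = ⊤ ∧ ∀ P : Sylow 2 X,
      Nat.card (P : Subgroup X) = 4 ∧ (∀ a ∈ (P : Subgroup X), a * a = 1) ∧
      (∀ x ∈ (P : Subgroup X), x ≠ 1 →
        ∃ n ∈ Subgroup.normalizer ((P : Subgroup X) : Set X), n * x * n⁻¹ ≠ x) ∧
      (∀ (α : MulAut X) (k : ℕ), α ^ 2 ^ k = 1 → (∀ a ∈ (P : Subgroup X), α a = a) →
        ∃ c ∈ (P : Subgroup X), α = MulAut.conj c) := by
  classical
  haveI : Fact (Nat.Prime 2) := ⟨Nat.prime_two⟩
  have hab' : ∀ P : Sylow 2 (SL2.PSLtwo F), ∀ a ∈ (P : Subgroup (SL2.PSLtwo F)),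
      ∀ b ∈ (P : Subgroup (SL2.PSLtwo F)), a * b = b * a := by
    intro P a ha b hb
    obtain ⟨Q, hQ⟩ := (P.2.comap_of_injective ι.toMonoidHom ι.injective).exists_le_sylow
    have := hab Q (ι.symm a) (hQ (by simpa using ha)) (ι.symm b) (hQ (by simpa using hb))
    simpa using congrArg ι this
  have h8 := card_mod_eight hodd h4 hab'
  haveI : IsSimpleGroup (SL2.PSLtwo F) :=
    LinGroup.isSimpleGroup_PSL_fin le_rfl (fun _ => by rw [Nat.card_eq_fintype_card]; exact h4)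
  haveI : IsSimpleGroup X := ι.isSimpleGroup
  have hcard : ∀ P : Sylow 2 X, Nat.card (P : Subgroup X) = 4 := by
    intro P
    obtain ⟨Q, -⟩ := (IsPGroup.of_bot (p := 2) (G := SL2.PSLtwo F)).exists_le_sylow
    rw [← card_sylow_four h8 Q, Sylow.card_eq_multiplicity, Sylow.card_eq_multiplicity,
      Nat.card_congr ι.toEquiv]
  have hperf : commutator X = ⊤ := by
    refine commutator_eq_top_of_simple fun h => ?_
    obtain ⟨P, -⟩ := (IsPGroup.of_bot (p := 2) (G := X)).exists_le_sylow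
    have hN : (P : Subgroup X).Normal := ⟨fun a ha g => by
      rw [h.is_comm.comm g a, mul_inv_cancel_right]; exact ha⟩
    rcases hN.eq_bot_or_eq_top with hb | ht
    · have := hcard P
      rw [hb] at this
      simp at this
    · have h1 := hcard P
      rw [ht, Subgroup.card_top, Nat.card_congr ι.toEquiv] at h1
      obtain ⟨Q, -⟩ := (IsPGroup.of_bot (p := 2) (G := SL2.PSLtwo F)).exists_le_sylow
      have hq := SL2.card_PSL_mul (F := F)
      rw [h1, Nat.gcd_eq_left (show 2 ∣ Fintype.card F - 1 by omega)] at hq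
      have h16 : 4 * (4 ^ 2 - 1) ≤ Fintype.card F * (Fintype.card F ^ 2 - 1) :=
        Nat.mul_le_mul h4 (Nat.sub_le_sub_right (Nat.pow_le_pow_left h4 2) 1)
      rw [← hq] at h16
      norm_num at h16
  refine ⟨inferInstance, hperf, fun P => ?_⟩
  have hmoves : ∀ x ∈ (P : Subgroup X), x ≠ 1 →
      ∃ n ∈ Subgroup.normalizer ((P : Subgroup X) : Set X), n * x * n⁻¹ ≠ x :=
    fun x hx hx1 => exists_normalizer_moves hperf P (hab P) hx hx1
  have hsq : ∀ a ∈ (P : Subgroup X), a * a = 1 := by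
    intro a ha
    by_contra h
    have hdvd : orderOf a ∣ 4 := hcard P ▸ Subgroup.orderOf_dvd_natCard _ ha
    have ho : orderOf a = 4 := by
      rcases (Nat.dvd_prime_pow Nat.prime_two).1 (show orderOf a ∣ 2 ^ 2 from hdvd) with ⟨i, hi, e⟩
      interval_cases i
      · exact absurd (orderOf_eq_one_iff.1 e) fun e1 => h (by simp [e1])
      · exact absurd (by rw [← sq, show (2 : ℕ) = orderOf a by rw [e]; norm_num]; exact pow_orderOf_eq_one a) h
      · rw [e]; norm_num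
    have hz : (P : Subgroup X) = Subgroup.zpowers a :=
      (Subgroup.eq_of_le_of_card_ge (Subgroup.zpowers_le.2 ha)
        (by rw [Nat.card_zpowers, ho, hcard P])).symm
    obtain ⟨n, hn, hne⟩ := hmoves (a * a) (mul_mem ha ha) h
    have hm : n * a * n⁻¹ ∈ Subgroup.zpowers a := hz ▸ (Subgroup.mem_normalizer_iff.1 hn a).1 ha
    obtain ⟨j, hj⟩ := Subgroup.mem_zpowers_iff.1 hm
    have hj2 : ¬ (2 : ℤ) ∣ j := by
      rintro ⟨i, rfl⟩
      apply h
      have h5 : (n * a * n⁻¹) * (n * a * n⁻¹) = 1 := by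
        rw [← hj, ← zpow_add, show (2 : ℤ) * i + 2 * i = (4 : ℤ) * i by ring, zpow_mul,
          show (4 : ℤ) = ((orderOf a : ℕ) : ℤ) by rw [ho]; norm_num, zpow_natCast,
          pow_orderOf_eq_one, one_zpow]
      rw [show (n * a * n⁻¹) * (n * a * n⁻¹) = n * (a * a) * n⁻¹ by group] at h5
      exact conj_eq_one_iff.1 h5
    apply hne
    rw [show n * (a * a) * n⁻¹ = (n * a * n⁻¹) * (n * a * n⁻¹) by group, ← hj, ← zpow_add]
    obtain ⟨i, rfl⟩ : ∃ i, j = 2 * i + 1 := ⟨j / 2, by omega⟩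
    rw [show (2 * i + 1) + (2 * i + 1) = (4 : ℤ) * i + 2 by ring, zpow_add, zpow_mul,
      show (4 : ℤ) = ((orderOf a : ℕ) : ℤ) by rw [ho]; norm_num, zpow_natCast,
      pow_orderOf_eq_one, one_zpow, one_mul, zpow_two]
  refine ⟨hcard P, hsq, hmoves, fun α k hα hfix => ?_⟩
  obtain ⟨v, hv, hv1⟩ : ∃ v ∈ (P : Subgroup X), v ≠ 1 := by
    by_contra h; push Not at h
    have := hcard P
    rw [(Subgroup.eq_bot_iff_forall _).2 h] at this
    simp at this
  obtain ⟨w, hw, hw1, hwv⟩ : ∃ w ∈ (P : Subgroup X), w ≠ 1 ∧ w ≠ v := by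
    by_contra h; push Not at h
    have hle : (P : Subgroup X) ≤ Subgroup.zpowers v := fun x hx => by
      rcases eq_or_ne x 1 with rfl | hx1
      · exact one_mem _
      · rw [h x hx hx1]; exact Subgroup.mem_zpowers v
    have := Subgroup.card_le_of_le hle
    rw [hcard P, Nat.card_zpowers] at this
    have := Nat.le_of_dvd two_pos (orderOf_dvd_of_pow_eq_one ((sq v).trans (hsq v hv)))
    omega
  let β : MulAut (SL2.PSLtwo F) := MulAut.congr ι α
  have hβ : β ^ 2 ^ k = 1 := by rw [← map_pow, hα, map_one]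
  have hfixβ : ∀ a ∈ (P : Subgroup X), β (ι a) = ι a := fun a ha => by
    show ι (α (ι.symm (ι a))) = ι a
    rw [ι.symm_apply_apply, hfix a ha]
  have hback : ∀ c : X, β = MulAut.conj (ι c) → α = MulAut.conj c := fun c hc =>
    MulEquiv.ext fun x => ι.injective (by
      have := DFunLike.congr_fun hc (ι x)
      rw [show β (ι x) = ι (α x) by show ι (α (ι.symm (ι x))) = _; rw [ι.symm_apply_apply]] at this
      simp [this])
  rcases aut_inner_of_fix h8 hβ (v := ι v) (w := ι w) (by rw [← map_mul, hsq v hv, map_one])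
    (by rw [← map_mul, hsq w hw, map_one]) (by rw [← map_mul, ← map_mul, hab P v hv w hw])
    (fun e => hv1 (ι.injective (e.trans (map_one ι).symm)))
    (fun e => hw1 (ι.injective (e.trans (map_one ι).symm))) (fun e => hwv (ι.injective e).symm)
    (hfixβ v hv) (hfixβ w hw) with e | e | e | e
  · exact ⟨1, one_mem _, hback 1 (by rw [map_one ι]; exact e)⟩
  · exact ⟨v, hv, hback v e⟩
  · exact ⟨w, hw, hback w e⟩
  · exact ⟨v * w, mul_mem hv hw, hback _ (by rw [map_mul ι]; exact e)⟩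

end Cfsg.Agent.Lib.JankoReeSchur
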