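import Cfsg.Agent.Lib.JankoReeSchur.Main
import Cfsg.Prelude.Def_TwoFusion

/-!
From the hypotheses of the Janko–Ree type to a `Config`.
-/

set_option autoImplicit false

namespace Cfsg.Agent.Lib.JankoReeSchur

open Subgroup

theorem main {G : Type*} [Group G] [Finite G] [IsSimpleGroup G]
    (hG : ¬ IsMulCommutative G) (hab : ∀ S : Sylow 2 G, IsMulCommutative ↥(S : Subgroup G))
    (t : G) (ht : orderOf t = 2) (hmax : IsCoatom (Subgroup.centralizer ({t} : Set G)))
    (E : Subgroup G)
    (hE : Cfsg.IsInternalDirectProduct (Subgroup.zpowers t) E (Subgroup.centralizer ({t} : Set G)))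
    {F : Type*} [Field F] [Fintype F] (hFo : Odd (Fintype.card F)) (hF3 : 3 < Fintype.card F)
    (N : Subgroup ↥E) [N.Normal]
    (hN : Nonempty (↥N ≃* Matrix.ProjectiveSpecialLinearGroup (Fin 2) F))
    (hNc : Subgroup.centralizer (N : Set ↥E) = ⊥) :
    (∀ (L : Type) (_ : Group L) (_ : Finite L) (Z : Subgroup L) (_ : Z.Normal), commutator L = ⊤ →
        Z ≤ Subgroup.center L → IsPGroup 2 ↥Z → Nonempty (L ⧸ Z ≃* G) → Z = ⊥) ∧
    (∀ (φ : G ≃* G) (k : ℕ), φ ^ (2 ^ k) = 1 →
        (∃ S : Sylow 2 G, ∀ s ∈ (S : Subgroup G), φ s = s) →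
        ∃ g : G, ∀ x : G, φ x = g * x * g⁻¹) := by
  classical
  haveI : Fact (Nat.Prime 2) := ⟨Nat.prime_two⟩
  obtain ⟨htC, hEC, hcom, hinf, hsup⟩ := hE
  have ht1 : t ≠ 1 := fun e => by rw [e, orderOf_one] at ht; omega
  have htt : t * t = 1 := by rw [← sq, ← ht]; exact pow_orderOf_eq_one t
  have htinv : t⁻¹ = t := inv_eq_of_mul_eq_one_right htt
  have hte : ∀ e ∈ E, t * e = e * t := fun e he => hcom t (mem_zpowers t) e he
  have htE : t ∉ E := fun h => ht1 ((Subgroup.mem_bot).1 (hinf ▸ ⟨mem_zpowers t, h⟩))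
  -- elements of the centraliser
  let K : Subgroup G :=
    { carrier := {x | x ∈ E ∨ t * x ∈ E}
      one_mem' := Or.inl E.one_mem
      mul_mem' := by
        rintro a b (ha | ha) (hb | hb)
        · exact Or.inl (mul_mem ha hb)
        · refine Or.inr ?_
          rw [← mul_assoc, hte a ha, mul_assoc]
          exact mul_mem ha hb
        · exact Or.inr (by rw [← mul_assoc]; exact mul_mem ha hb)
        · refine Or.inl ?_
          have h := mul_mem ha hb
          rwa [show t * a * (t * b) = (t * a) * t * b by group, ← hte _ ha,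
            ← mul_assoc t t a, htt, one_mul] at h
      inv_mem' := by
        rintro a (ha | ha)
        · exact Or.inl (inv_mem ha)
        · refine Or.inr ?_
          have h := inv_mem ha
          rw [mul_inv_rev, htinv] at h
          have h2 : Commute t a := by
            have h3 := hte _ ha
            rw [← mul_assoc, htt, one_mul] at h3
            show t * a = a * t
            conv_rhs => rw [h3]
            rw [mul_assoc, htt, mul_one]
          rw [h2.inv_right.eq]
          exact h }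
  have hdec : ∀ x : G, x * t = t * x → x ∈ E ∨ t * x ∈ E := by
    intro x hx
    have : Subgroup.zpowers t ⊔ E ≤ K := sup_le (Subgroup.zpowers_le.2 (Or.inr (htt ▸ E.one_mem)))
      fun e he => Or.inl he
    exact this (hsup.symm ▸ Subgroup.mem_centralizer_singleton_iff.2 hx)
  have hperf : commutator G = ⊤ := commutator_eq_top_of_simple hG
  have hcomm : ∀ (S : Sylow 2 G), ∀ a ∈ (S : Subgroup G), ∀ b ∈ (S : Subgroup G), a * b = b * a :=
    fun S a ha b hb => congrArg Subtype.val ((hab S).is_comm.comm ⟨a, ha⟩ ⟨b, hb⟩)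
  obtain ⟨ι⟩ := hN
  let j : ↥N →* G := E.subtype.comp N.subtype
  have hj : Function.Injective j := E.subtype_injective.comp N.subtype_injective
  obtain ⟨hXs, hXp, hX⟩ := fourGroup_facts ι hFo hF3 (fun P a ha b hb => hj (by
    obtain ⟨Q, hQ⟩ := (P.2.map j).exists_le_sylow
    rw [map_mul, map_mul]
    exact hcomm Q _ (hQ (Subgroup.mem_map_of_mem j ha)) _ (hQ (Subgroup.mem_map_of_mem j hb))))
  obtain ⟨P, -⟩ := (IsPGroup.of_bot (p := 2) (G := ↥N)).exists_le_sylow
  obtain ⟨hP4, hPsq, hPmov, hPaut⟩ := hX P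
  set V : Subgroup G := (P : Subgroup ↥N).map j with hV
  have hVE : V ≤ E := fun v hv => by
    obtain ⟨a, -, rfl⟩ := Subgroup.mem_map.1 hv
    exact ((a : ↥E)).2
  have hjc : ∀ x : ↥N, j x * t = t * j x := fun x => (hte _ (x : ↥E).2).symm
  -- a 2-element of `E` commuting with `V` lies in `V`
  have hEV : ∀ e ∈ E, ∀ i : ℕ, e ^ 2 ^ i = 1 → (∀ v ∈ V, e * v = v * e) → e ∈ V := by
    intro e he i hi hev
    let α : MulAut ↥N := MulAut.conjNormal (⟨e, he⟩ : ↥E)
    have hα : α ^ 2 ^ i = 1 := by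
      rw [← map_pow, show (⟨e, he⟩ : ↥E) ^ 2 ^ i = 1 from Subtype.ext hi, map_one]
    have hja : ∀ x, j (α x) = e * j x * e⁻¹ := fun x => by
      show E.subtype ((MulAut.conjNormal (⟨e, he⟩ : ↥E) x : ↥N) : ↥E) = _
      rw [MulAut.conjNormal_apply]
      rfl
    obtain ⟨c, hc, hαc⟩ := hPaut α i hα (fun a ha => hj (by
      rw [hja, hev _ (Subgroup.mem_map_of_mem j ha), mul_inv_cancel_right]))
    have hcen : ((c : ↥E)⁻¹ * ⟨e, he⟩ : ↥E) ∈ Subgroup.centralizer (N : Set ↥E) := by
      intro n hn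
      have h1 := hja ⟨n, hn⟩
      rw [hαc] at h1
      have h1 : j (c * ⟨n, hn⟩ * c⁻¹) = e * j ⟨n, hn⟩ * e⁻¹ := h1
      rw [map_mul, map_mul, map_inv] at h1
      refine Subtype.ext ?_
      show (j ⟨n, hn⟩) * ((j c)⁻¹ * e) = (j c)⁻¹ * e * j ⟨n, hn⟩
      calc j ⟨n, hn⟩ * ((j c)⁻¹ * e) = (j c)⁻¹ * (j c * j ⟨n, hn⟩ * (j c)⁻¹) * e := by group
        _ = (j c)⁻¹ * e * j ⟨n, hn⟩ := by rw [h1]; group
    rw [hNc, Subgroup.mem_bot, inv_mul_eq_one] at hcen
    exact ⟨c, hc, congrArg Subtype.val hcen⟩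
  -- a Sylow subgroup containing `t` and `V`
  have hTp : IsPGroup 2 (Subgroup.zpowers t) :=
    IsPGroup.of_card (n := 1) (by rw [Nat.card_zpowers, ht, pow_one])
  obtain ⟨S, hS⟩ := ((P.2.map j).to_sup_of_normal_right' hTp (by
    intro v hv
    refine Subgroup.mem_normalizer_fintype fun w hw => ?_
    obtain ⟨i, rfl⟩ := Subgroup.mem_zpowers_iff.1 hw
    have h : Commute v (t ^ i) := (show Commute v t from (hte v (hVE hv)).symm).zpow_right i
    rw [h.eq, mul_inv_cancel_right]
    exact zpow_mem (mem_zpowers t) i)).exists_le_sylow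
  have htS : t ∈ (S : Subgroup G) := hS (le_sup_right (a := V) (mem_zpowers t))
  have hVS : V ≤ (S : Subgroup G) := le_sup_left.trans hS
  have hcover : ∀ s ∈ (S : Subgroup G), s ∈ V ∨ t * s ∈ V := by
    intro s hs
    have key : ∀ e ∈ (S : Subgroup G), e ∈ E → e ∈ V := fun e heS heE => by
      obtain ⟨i, hi⟩ := S.2 ⟨e, heS⟩
      exact hEV e heE i (congrArg Subtype.val hi) fun v hv => hcomm S e heS v (hVS hv)
    rcases hdec s (hcomm S s hs t htS) with h | h
    · exact Or.inl (key s hs h)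
    · exact Or.inr (key _ (mul_mem htS hs) h)
  let c : Config G :=
    { t := t
      V := V
      S := S
      perf := hperf
      comm := hcomm S
      t_sq := htt
      t_ne := ht1
      t_mem := htS
      V_le := hVS
      V_card := by rw [hV, ← hP4]; exact Nat.card_congr (Subgroup.equivMapOfInjective _ j hj).symm.toEquiv
      V_sq := fun v hv => by
        obtain ⟨a, ha, rfl⟩ := Subgroup.mem_map.1 hv
        rw [← map_mul, hPsq a ha, map_one]
      cover := hcover
      moves := fun v hv hv1 => by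
        obtain ⟨a, ha, rfl⟩ := Subgroup.mem_map.1 hv
        obtain ⟨n, hn, hne⟩ := hPmov a ha (fun e => hv1 (by rw [e, map_one]))
        have hVn : ∀ u ∈ V, j n * u * (j n)⁻¹ ∈ V := fun u hu => by
          obtain ⟨b, hb, rfl⟩ := Subgroup.mem_map.1 hu
          exact ⟨n * b * n⁻¹, (Subgroup.mem_normalizer_iff.1 hn b).1 hb, by simp⟩
        refine ⟨j n, hjc n, hVn, Subgroup.mem_normalizer_fintype fun s hs => ?_,
          fun e => hne (hj (by simpa using e))⟩
        rcases hcover s hs with h | h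
        · exact hVS (hVn s h)
        · have h1 := mul_mem htS (hVS (hVn _ h))
          rwa [show t * (j n * (t * s) * (j n)⁻¹) = (t * j n) * (t * s) * (j n)⁻¹ by group,
            ← hjc n, mul_assoc (j n) t, ← mul_assoc t t, htt, one_mul] at h1 }
  refine ⟨?_, ?_⟩
  · intro L _ _ Z _ hL hZ hZ2 hLe
    obtain ⟨e⟩ := hLe
    let π : L →* G := e.toMonoidHom.comp (QuotientGroup.mk' Z)
    have hk : π.ker = Z := by
      ext x
      simp [π, MonoidHom.mem_ker]
    have := c.center_bot π (e.surjective.comp (QuotientGroup.mk'_surjective Z)) (hk ▸ hZ) hL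
      (hk ▸ hZ2)
    rwa [hk] at this
  · intro φ₀ k hφ₀ hfix₀
    obtain ⟨S₀, hS₀⟩ := hfix₀
    obtain ⟨h, hh⟩ := MulAction.exists_smul_eq G S₀ S
    let φ : MulAut G := MulAut.conj h * φ₀ * (MulAut.conj h)⁻¹
    have hφ : φ ^ 2 ^ k = 1 := by rw [conj_pow, hφ₀, mul_one, mul_inv_cancel]
    have hfS : ∀ s ∈ (S : Subgroup G), φ s = s := by
      intro s hs
      have h1 : h⁻¹ * s * h ∈ (S₀ : Subgroup G) := by
        rw [← hh] at hs
        obtain ⟨w, hw, rfl⟩ := hs
        show h⁻¹ * (h * w * h⁻¹) * h ∈ (S₀ : Subgroup G)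
        rw [show h⁻¹ * (h * w * h⁻¹) * h = w by group]
        exact hw
      show h * φ₀ (h⁻¹ * s * h) * h⁻¹ = s
      rw [hS₀ _ h1]; group
    suffices ∃ g, φ = MulAut.conj g by
      obtain ⟨g, hg⟩ := this
      refine ⟨h⁻¹ * g * h, fun x => ?_⟩
      have hg' : φ (h * x * h⁻¹) = g * (h * x * h⁻¹) * g⁻¹ := by rw [hg]; rfl
      rw [show φ (h * x * h⁻¹) = h * φ₀ (h⁻¹ * (h * x * h⁻¹) * h) * h⁻¹ from rfl,
        show h⁻¹ * (h * x * h⁻¹) * h = x by group] at hg'
      rw [show φ₀ x = h⁻¹ * (h * φ₀ x * h⁻¹) * h by group, hg']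
      group
    -- `φ` stabilises the image of `N`
    have hφt : φ t = t := hfS t htS
    have hφc : ∀ x : G, x * t = t * x → φ x * t = t * φ x := fun x hx => by
      have := congrArg φ hx
      rwa [map_mul, map_mul, hφt] at this
    have hEc : ∀ a b : G, a * t = t * a → b * t = t * b → a * b * a⁻¹ * b⁻¹ ∈ E := by
      have hred : ∀ a, a * t = t * a → ∀ b : G, ∃ a', a' ∈ E ∧
          (a = a' ∨ a = t * a') := fun a ha _ => by
        rcases hdec a ha with h | h
        · exact ⟨a, h, Or.inl rfl⟩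
        · exact ⟨t * a, h, Or.inr (by rw [← mul_assoc, htt, one_mul])⟩
      intro a b ha hb
      obtain ⟨a', ha', ea⟩ := hred a ha b
      obtain ⟨b', hb', eb⟩ := hred b hb a
      have hm := mul_mem (mul_mem (mul_mem ha' hb') (inv_mem ha')) (inv_mem hb')
      have key : ∀ p q : G, q * t = t * q →
          (t * p) * q * (t * p)⁻¹ * q⁻¹ = t * (p * q * p⁻¹ * q⁻¹) * t⁻¹ := fun p q hq => by
        rw [show t * (p * q * p⁻¹ * q⁻¹) * t⁻¹ = t * p * q * p⁻¹ * (q⁻¹ * t⁻¹) by group,
          show q⁻¹ * t⁻¹ = t⁻¹ * q⁻¹ by rw [← mul_inv_rev, ← mul_inv_rev, hq]]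
        group
      have key' : ∀ p q : G, p * t = t * p →
          p * (t * q) * p⁻¹ * (t * q)⁻¹ = t * (p * q * p⁻¹ * q⁻¹) * t⁻¹ := fun p q hp => by
        rw [← mul_assoc p t q, hp]; group
      have hcomE : ∀ m ∈ E, t * m * t⁻¹ = m := fun m hm => by rw [hte m hm, mul_inv_cancel_right]
      rcases ea with rfl | rfl <;> rcases eb with rfl | rfl
      · exact hm
      · rw [key' _ _ ha, hcomE _ hm]; exact hm
      · rw [key _ _ hb, hcomE _ hm]; exact hm
      · rw [key _ _ hb, key' _ _ (hte _ ha').symm, hcomE _ hm, hcomE _ hm]; exact hm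
    let f : ↥N →* G := (φ : G →* G).comp j
    have hfE : ∀ x, f x ∈ E := by
      have h1 : commutator ↥N ≤ E.comap f := by
        rw [_root_.commutator_def, Subgroup.commutator_le]
        intro a _ b _
        show f (a * b * a⁻¹ * b⁻¹) ∈ E
        rw [map_mul, map_mul, map_mul, map_inv, map_inv]
        exact hEc _ _ (hφc _ (hjc a)) (hφc _ (hjc b))
      rw [hXp] at h1
      exact fun x => h1 (mem_top x)
    let f' : ↥N →* ↥E := f.codRestrict E hfE
    have hf'inj : Function.Injective f' := fun a b hab' =>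
      hj (φ.injective (congrArg Subtype.val hab'))
    have hfN : ∀ x, f' x ∈ N := by
      let q : ↥N →* ↥E ⧸ N := (QuotientGroup.mk' N).comp f'
      rcases q.normal_ker.eq_bot_or_eq_top with hb | htop
      · exfalso
        -- the index of `N` in `E` is odd
        have hodd : ¬ 2 ∣ Nat.card (↥E ⧸ N) := by
          obtain ⟨Q, hQ⟩ := (P.2.map N.subtype).exists_le_sylow
          have hQN : (Q : Subgroup ↥E) ≤ N := by
            intro x hx
            obtain ⟨i, hi⟩ := Q.2 ⟨x, hx⟩
            obtain ⟨Q', hQ'⟩ := (Q.2.map E.subtype).exists_le_sylow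
            obtain ⟨a, -, e⟩ := Subgroup.mem_map.1 (hEV x x.2 i
              (congrArg (fun y : ↥(Q : Subgroup ↥E) => ((y : ↥E) : G)) hi) (fun v hv => by
                obtain ⟨a, ha, rfl⟩ := Subgroup.mem_map.1 hv
                exact hcomm Q' _ (hQ' (Subgroup.mem_map_of_mem _ hx)) _
                  (hQ' (Subgroup.mem_map_of_mem _ (hQ (Subgroup.mem_map_of_mem _ ha))))))
            have e' : (a : ↥E) = x := E.subtype_injective e
            exact e' ▸ a.2
          exact fun h => Q.not_dvd_index (h.trans (Subgroup.index_dvd_of_le hQN))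
        have h1 : Nat.card ↥N ∣ Nat.card (↥E ⧸ N) :=
          Subgroup.card_dvd_of_injective q ((MonoidHom.ker_eq_bot_iff q).1 hb)
        refine hodd (dvd_trans ?_ h1)
        exact (dvd_trans ⟨2, by rw [hP4]; norm_num⟩ (Subgroup.card_subgroup_dvd_card (P : Subgroup ↥N)))
      · intro x
        have := htop ▸ mem_top x
        exact (QuotientGroup.eq_one_iff _).1 (MonoidHom.mem_ker.1 this)
    let α0 : ↥N →* ↥N := f'.codRestrict N hfN
    have hα0 : Function.Bijective α0 := by
      have hi : Function.Injective α0 := fun a b hab' => hf'inj (congrArg Subtype.val hab')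
      exact ⟨hi, (Finite.injective_iff_surjective).1 hi⟩
    let α : MulAut ↥N := MulEquiv.ofBijective α0 hα0
    have hjα : ∀ x, j (α x) = φ (j x) := fun x => rfl
    have hαpow : ∀ i : ℕ, ∀ x, j ((α ^ i) x) = (φ ^ i) (j x) := by
      intro i
      induction i with
      | zero => simp
      | succ i ih => intro x; rw [pow_succ, pow_succ, MulAut.mul_apply, MulAut.mul_apply, ih, hjα]
    have hα : α ^ 2 ^ k = 1 := MulEquiv.ext fun x => hj (by rw [hαpow, hφ]; rfl)
    obtain ⟨v, hv, hαv⟩ := hPaut α k hα (fun a ha => hj (by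
      rw [hjα, hfS _ (hVS (Subgroup.mem_map_of_mem j ha))]))
    -- after composing with `v`, the automorphism fixes `C(t)`
    have hvfix : φ (j v) = j v := hfS _ (hVS (Subgroup.mem_map_of_mem j hv))
    have hvsq : MulAut.conj (j v) ^ 2 = 1 := by
      rw [← map_pow, sq, ← map_mul, hPsq v hv, map_one, map_one]
    let ψ : MulAut G := MulAut.conj (j v) * φ
    have hcv : Commute (MulAut.conj (j v)) φ := MulEquiv.ext fun x => by
      show j v * φ x * (j v)⁻¹ = φ (j v * x * (j v)⁻¹)
      rw [map_mul, map_mul, map_inv, hvfix]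
    have hψ : ψ ^ 2 ^ (k + 1) = 1 := by
      show (MulAut.conj (j v) * φ) ^ 2 ^ (k + 1) = 1
      rw [hcv.mul_pow, pow_succ, pow_mul φ, hφ, one_pow, mul_one, mul_comm, pow_mul, hvsq, one_pow]
    have hψS : ∀ s ∈ (S : Subgroup G), ψ s = s := fun s hs => by
      show j v * φ s * (j v)⁻¹ = s
      rw [hfS s hs, hcomm S _ (hVS (Subgroup.mem_map_of_mem j hv)) s hs, mul_inv_cancel_right]
    have hψN : ∀ x, ψ (j x) = j x := fun x => by
      show j v * φ (j x) * (j v)⁻¹ = j x
      rw [← hjα, hαv, MulAut.conj_apply, ← map_inv, ← map_mul, ← map_mul]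
      congr 1
      have hvv : v⁻¹ = v := inv_eq_of_mul_eq_one_right (hPsq v hv)
      rw [hvv, ← mul_assoc, ← mul_assoc, hPsq v hv, one_mul, mul_assoc, hPsq v hv, mul_one]
    have hψc : ∀ x : G, x * t = t * x → ψ x * t = t * ψ x := fun x hx => by
      have := congrArg ψ hx
      rwa [map_mul, map_mul, hψS t htS] at this
    have hd : ∀ x : G, x * t = t * x → x⁻¹ * ψ x = 1 ∨ x⁻¹ * ψ x = t := by
      intro x hx
      set d := x⁻¹ * ψ x with hd
      have hdt : d * t = t * d := by
        rw [hd, mul_assoc, hψc x hx, ← mul_assoc, ← mul_assoc,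
          show x⁻¹ * t = t * x⁻¹ by rw [inv_mul_eq_iff_eq_mul, ← mul_assoc, hx, mul_inv_cancel_right]]
      have hdn : ∀ n : ↥N, j n * d = d * j n := by
        intro n
        -- `x` normalises the image of `N`
        obtain ⟨n', hn'⟩ : ∃ n', j n' = x * j n * x⁻¹ := by
          rcases hdec x hx with h | h
          · exact ⟨MulAut.conjNormal (⟨x, h⟩ : ↥E) n, by
              show E.subtype ((MulAut.conjNormal (⟨x, h⟩ : ↥E) n : ↥N) : ↥E) = _
              rw [MulAut.conjNormal_apply]; rfl⟩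
          · refine ⟨MulAut.conjNormal (⟨t * x, h⟩ : ↥E) n, ?_⟩
            show E.subtype ((MulAut.conjNormal (⟨t * x, h⟩ : ↥E) n : ↥N) : ↥E) = _
            rw [MulAut.conjNormal_apply]
            show t * x * j n * (t * x)⁻¹ = x * j n * x⁻¹
            rw [← hx, mul_assoc x t, ← hjc n]
            group
        have h1 := hψN n'
        rw [hn', map_mul, map_mul, map_inv, hψN] at h1
        rw [hd]
        calc j n * (x⁻¹ * ψ x) = x⁻¹ * (x * j n * x⁻¹) * ψ x := by group
          _ = x⁻¹ * ψ x * j n := by rw [← h1]; group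
      have hone : ∀ e (he : e ∈ E), (∀ n : ↥N, j n * e = e * j n) → e = 1 := by
        intro e he hen
        have h1 : (⟨e, he⟩ : ↥E) ∈ Subgroup.centralizer (N : Set ↥E) := fun n hn =>
          Subtype.ext (hen ⟨n, hn⟩)
        rw [hNc, Subgroup.mem_bot] at h1
        exact congrArg Subtype.val h1
      rcases hdec d hdt with h | h
      · exact Or.inl (hone d h hdn)
      · right
        have := hone (t * d) h (fun n => by
          calc j n * (t * d) = t * (j n * d) := by rw [← mul_assoc, hjc n, mul_assoc]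
            _ = t * (d * j n) := by rw [hdn n]
            _ = t * d * j n := by rw [mul_assoc t d (j n)])
        rw [← htinv]
        exact (inv_eq_of_mul_eq_one_right this).symm
    -- `ψ` fixes the centraliser of `t`
    have hψfix : ∀ x : G, x * t = t * x → ψ x = x := by
      have hψt : ψ t = t := hψS t htS
      have hsq : ∀ x : G, x * t = t * x → ψ (x * x) = x * x := fun x hx => by
        rcases hd x hx with h | h
        · rw [inv_mul_eq_one] at h
          rw [map_mul, ← h]
        · rw [inv_mul_eq_iff_eq_mul] at h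
          rw [map_mul, h, show x * t * (x * t) = x * (t * x) * t by group, ← hx,
            show x * (x * t) * t = x * x * (t * t) by group, htt, mul_one]
      have htwo : ∀ y : G, y * t = t * y → ∀ i : ℕ, y ^ 2 ^ i = 1 → ψ y = y := by
        intro y hy i hi
        let C := Subgroup.centralizer ({t} : Set G)
        have hSC : (S : Subgroup G) ≤ C := fun s hs =>
          Subgroup.mem_centralizer_singleton_iff.2 (hcomm S s hs t htS)
        have hyC : y ∈ C := Subgroup.mem_centralizer_singleton_iff.2 hy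
        have hp : IsPGroup 2 (Subgroup.zpowers (⟨y, hyC⟩ : C)) := by
          obtain ⟨l, -, hl⟩ := (Nat.dvd_prime_pow Nat.prime_two).1
            (orderOf_dvd_of_pow_eq_one (show (⟨y, hyC⟩ : C) ^ 2 ^ i = 1 from Subtype.ext hi))
          exact IsPGroup.of_card (n := l) (by rw [Nat.card_zpowers, hl])
        obtain ⟨Q, hQ⟩ := hp.exists_le_sylow
        obtain ⟨g, hg⟩ := MulAction.exists_smul_eq C (S.subtype hSC) Q
        have hyQ := hQ (mem_zpowers _)
        rw [← hg] at hyQ
        obtain ⟨s, hs, hys⟩ := hyQ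
        have hys' : (g : G) * (s : G) * (g : G)⁻¹ = y := congrArg Subtype.val hys
        have hgt : (g : G) * t = t * g := Subgroup.mem_centralizer_singleton_iff.1 g.2
        have hs' : (s : G) ∈ (S : Subgroup G) := hs
        rw [← hys', map_mul, map_mul, map_inv, hψS _ hs']
        rcases hd g hgt with h | h
        · rw [← inv_mul_eq_one.1 h]
        · rw [inv_mul_eq_iff_eq_mul.1 h, mul_inv_rev, mul_assoc (g : G) t,
            ← hcomm S _ hs' t htS]
          group
      intro x hx
      obtain ⟨i, m, hm, hxm⟩ := Nat.exists_eq_pow_mul_and_not_dvd (orderOf_pos x).ne' 2 (by norm_num)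
      have hxc : Commute x t := hx
      have h1 : ψ (x ^ m) = x ^ m := htwo _ (hxc.pow_left m).eq i (by
        rw [← pow_mul, mul_comm, ← hxm, pow_orderOf_eq_one])
      obtain ⟨l, rfl⟩ : ∃ l, m = 2 * l + 1 := ⟨m / 2, by omega⟩
      have h2 : ψ (x ^ (2 * l)) = x ^ (2 * l) := by
        rw [pow_mul, map_pow, sq, hsq x hx]
      rw [pow_succ, map_mul, h2] at h1
      exact mul_left_cancel h1
    obtain ⟨g, hg⟩ := c.inner_of_fix_centralizer hmax ψ hψ hψfix
    refine ⟨(j v)⁻¹ * g, ?_⟩
    rw [map_mul, map_inv, ← hg]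
    exact (inv_mul_cancel_left _ φ).symm

end Cfsg.Agent.Lib.JankoReeSchur
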